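import Groth.Agent.Lib.FibreDim.Semicont
import Mathlib.AlgebraicGeometry.Morphisms.QuasiCompact

/-!
# Dimension of fibres: consequences of semicontinuity
-/

set_option autoImplicit false

universe u

open CategoryTheory AlgebraicGeometry Topology

namespace Groth.Agent.Lib.FibreDim.Global

open Groth.Agent.Lib.FibreDim.Basic Groth.Agent.Lib.FibreDim.Chart
  Groth.Agent.Lib.FibreDim.Semicont

variable {X Y : Scheme.{u}} (f : X ⟶ Y) [LocallyOfFiniteType f]

/-- `dim f⁻¹(y) ≥ n` iff some point of the fibre has local fibre dimension `≥ n`. -/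
theorem le_topologicalKrullDim_fiber_iff (y : Y) (n : ℕ) :
    (n : WithBot ℕ∞) ≤ topologicalKrullDim ↥(f.fiber y) ↔
      ∃ x, f.base x = y ∧ (n : WithBot ℕ∞) ≤ FlatMor.fibreDimAt f x := by
  refine ⟨fun h => ?_, fun ⟨x, hx, h⟩ => h.trans (fibreDimAt_le_topologicalKrullDim f hx)⟩
  by_contra hc
  push Not at hc
  cases n with
  | zero =>
    have : topologicalKrullDim ↥(f.fiber y) ≤ ⊥ := topologicalKrullDim_fiber_le f fun x hx => by
      obtain ⟨e, he⟩ := exists_fibreDimAt_eq f x
      have := hc x hx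
      rw [he] at this
      exact absurd this (not_lt.2 (by exact_mod_cast Nat.zero_le e))
    have := h.trans this
    rw [le_bot_iff] at this
    exact WithBot.coe_ne_bot this
  | succ m =>
    have : topologicalKrullDim ↥(f.fiber y) ≤ (m : WithBot ℕ∞) :=
      topologicalKrullDim_fiber_le f fun x hx => by
        obtain ⟨e, he⟩ := exists_fibreDimAt_eq f x
        have := hc x hx
        rw [he] at this ⊢
        have he' : e < m + 1 := by exact_mod_cast this
        exact_mod_cast Nat.lt_succ_iff.1 he'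
    have := h.trans this
    have : m + 1 ≤ m := by exact_mod_cast this
    omega

theorem isClosed_setOf_le_fibreDimAt (n : ℕ) :
    IsClosed {x : X | (n : WithBot ℕ∞) ≤ FlatMor.fibreDimAt f x} := by
  rw [← isOpen_compl_iff]
  cases n with
  | zero =>
    convert isOpen_empty
    rw [Set.eq_empty_iff_forall_notMem]
    intro x hx
    obtain ⟨e, he⟩ := exists_fibreDimAt_eq f x
    exact hx (show ((0 : ℕ) : WithBot ℕ∞) ≤ _ by rw [he]; exact_mod_cast Nat.zero_le e)
  | succ m =>
    convert isOpen_setOf_fibreDimAt_le f (m : WithBot ℕ∞) using 1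
    ext x
    obtain ⟨e, he⟩ := exists_fibreDimAt_eq f x
    simp only [Set.mem_compl_iff, Set.mem_ofPred_eq, he, Nat.cast_le, not_le, Nat.lt_succ_iff]

theorem setOf_le_fibre_dim_eq_image (n : ℕ) :
    {y : Y | (n : WithBot ℕ∞) ≤ topologicalKrullDim ↥(f.fiber y)} =
      f.base '' {x | (n : WithBot ℕ∞) ≤ FlatMor.fibreDimAt f x} := by
  ext y
  rw [Set.mem_ofPred_eq, le_topologicalKrullDim_fiber_iff]
  exact ⟨fun ⟨x, hx, h⟩ => ⟨x, h, hx⟩, fun ⟨x, h, hx⟩ => ⟨x, hx, h⟩⟩

theorem isClosed_setOf_le_fibre_dim (hf : IsClosedMap f.base) (n : ℕ) :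
    IsClosed {y : Y | (n : WithBot ℕ∞) ≤ topologicalKrullDim ↥(f.fiber y)} := by
  rw [setOf_le_fibre_dim_eq_image]
  exact hf _ (isClosed_setOf_le_fibreDimAt f n)

theorem isOpen_setOf_fibre_dim_le (hf : IsClosedMap f.base) (c : WithBot ℕ∞) :
    IsOpen {y : Y | topologicalKrullDim ↥(f.fiber y) ≤ c} := by
  have key : ∀ n : ℕ, IsOpen {y : Y | topologicalKrullDim ↥(f.fiber y) ≤ (n : WithBot ℕ∞)} := by
    intro n
    convert (isClosed_setOf_le_fibre_dim f hf (n + 1)).isOpen_compl using 1
    ext y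
    simp only [Set.mem_compl_iff, Set.mem_ofPred_eq]
    constructor
    · intro h h'
      have := h'.trans h
      have : n + 1 ≤ n := by exact_mod_cast this
      omega
    · intro h
      refine topologicalKrullDim_fiber_le f fun x hx => ?_
      obtain ⟨e, he⟩ := exists_fibreDimAt_eq f x
      rw [he]
      by_contra hlt
      refine h (le_trans ?_ (he ▸ fibreDimAt_le_topologicalKrullDim f hx))
      rw [not_le] at hlt
      have : n < e := by exact_mod_cast hlt
      exact_mod_cast this
  cases c with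
  | bot =>
    have e : {y : Y | topologicalKrullDim ↥(f.fiber y) ≤ ⊥} = (Set.range f.base)ᶜ := by
      ext y
      simp only [Set.mem_compl_iff, Set.mem_ofPred_eq, le_bot_iff]
      constructor
      · rintro h ⟨x, rfl⟩
        obtain ⟨e, he⟩ := exists_fibreDimAt_eq f x
        have := fibreDimAt_le_topologicalKrullDim f (rfl : f.base x = _)
        rw [he, h, le_bot_iff] at this
        exact WithBot.coe_ne_bot this
      · intro h
        exact le_bot_iff.1 (topologicalKrullDim_fiber_le f fun x hx => absurd ⟨x, hx⟩ h)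
    rw [e]
    exact hf.isClosed_range.isOpen_compl
  | coe c =>
    induction c using ENat.recTopCoe with
    | top =>
      convert isOpen_univ
      exact Set.eq_univ_of_forall fun y => topologicalKrullDim_fiber_le f fun x _ => by
        obtain ⟨e, he⟩ := exists_fibreDimAt_eq f x
        rw [he]
        exact_mod_cast (le_top : (e : ℕ∞) ≤ ⊤)
    | coe n => exact key n

theorem exists_bound [CompactSpace X] : ∃ n : ℕ, ∀ x, FlatMor.fibreDimAt f x ≤ n := by
  choose e he using exists_fibreDimAt_eq f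
  obtain ⟨t, ht⟩ := isCompact_univ.elim_finite_subcover
    (fun n : ℕ => {x : X | FlatMor.fibreDimAt f x ≤ (n : WithBot ℕ∞)})
    (fun n => isOpen_setOf_fibreDimAt_le f _)
    (fun x _ => Set.mem_iUnion.2 ⟨e x, (he x).le⟩)
  refine ⟨t.sup id, fun x => ?_⟩
  obtain ⟨n, hn, hxn⟩ := Set.mem_iUnion₂.1 (ht (Set.mem_univ x))
  have hxn' : FlatMor.fibreDimAt f x ≤ (n : WithBot ℕ∞) := hxn
  exact hxn'.trans (by exact_mod_cast Finset.le_sup (f := id) hn)

theorem fibre_dim_le_fibreDimAt_of_specializes {ξ x : X} (hξ : ∀ z, f.base z = f.base ξ → ξ ⤳ z)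
    (h : ξ ⤳ x) :
    topologicalKrullDim ↥(f.fiber (f.base ξ)) ≤ FlatMor.fibreDimAt f x := by
  refine topologicalKrullDim_fiber_le f fun z hz => ?_
  obtain ⟨ζ, -, hfζ, hmax, hd⟩ := exists_maximal_generization f z
  have : ξ = ζ := hmax ξ hz.symm (hξ ζ (hfζ.trans hz))
  rw [← hd, ← this]
  obtain ⟨U, hxU, hU⟩ := exists_open_forall_fibreDimAt_le f x
  exact hU ξ (h.mem_open U.2 hxU)

end Groth.Agent.Lib.FibreDim.Global
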