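import Groth.Agent.Lib.FibreDim.Chart
import Groth.Agent.H46.QFin
import Mathlib.AlgebraicGeometry.ZariskisMainTheorem
import Mathlib.RingTheory.TensorProduct.MvPolynomial
import Mathlib.RingTheory.NoetherNormalization
import Mathlib.RingTheory.MvPolynomial.Localization

/-!
# Chevalley's upper semicontinuity of the fibre dimension
-/

set_option autoImplicit false

universe u

open CategoryTheory AlgebraicGeometry Topology TensorProduct

namespace Groth.Agent.Lib.FibreDim.Semicont

open Groth.Agent.Lib.FibreDim.Basic Groth.Agent.Lib.FibreDim.Chart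

section ring

variable {R : Type u} [CommRing R]

theorem exists_C_mul_eq_map (p : Ideal R) [p.IsPrime] {n : ℕ}
    (F : MvPolynomial (Fin n) p.ResidueField) :
    ∃ r ∉ p, ∃ f : MvPolynomial (Fin n) R,
      MvPolynomial.C (algebraMap R p.ResidueField r) * F =
        MvPolynomial.map (algebraMap R p.ResidueField) f := by
  induction F using MvPolynomial.induction_on with
  | C c =>
    obtain ⟨a, b, hb, rfl⟩ := IsFractionRing.div_surjective (A := R ⧸ p) c
    obtain ⟨a, rfl⟩ := Ideal.Quotient.mk_surjective a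
    obtain ⟨b, rfl⟩ := Ideal.Quotient.mk_surjective b
    have hbp : b ∉ p := fun h => nonZeroDivisors.ne_zero hb (Ideal.Quotient.eq_zero_iff_mem.2 h)
    refine ⟨b, hbp, MvPolynomial.C a, ?_⟩
    rw [← map_mul, MvPolynomial.map_C]
    congr 1
    rw [show algebraMap R p.ResidueField b =
        algebraMap (R ⧸ p) p.ResidueField (Ideal.Quotient.mk p b) from
      IsScalarTower.algebraMap_apply R (R ⧸ p) p.ResidueField b, show algebraMap R p.ResidueField a =
        algebraMap (R ⧸ p) p.ResidueField (Ideal.Quotient.mk p a) from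
      IsScalarTower.algebraMap_apply R (R ⧸ p) p.ResidueField a,
      mul_div_cancel₀]
    exact (map_ne_zero_iff _ (IsFractionRing.injective (R ⧸ p) p.ResidueField)).2
      (nonZeroDivisors.ne_zero hb)
  | add F G hF hG =>
    obtain ⟨r, hr, f, hf⟩ := hF
    obtain ⟨s, hs, g, hg⟩ := hG
    refine ⟨r * s, fun h => (‹p.IsPrime›.mem_or_mem h).elim hr hs,
      MvPolynomial.C s * f + MvPolynomial.C r * g, ?_⟩
    rw [map_add, map_mul, map_mul (MvPolynomial.map (algebraMap R p.ResidueField)),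
      map_mul (MvPolynomial.map (algebraMap R p.ResidueField)), MvPolynomial.map_C,
      MvPolynomial.map_C, ← hf, ← hg, map_mul MvPolynomial.C]
    ring
  | mul_X F i hF =>
    obtain ⟨r, hr, f, hf⟩ := hF
    exact ⟨r, hr, f * MvPolynomial.X i, by rw [map_mul, MvPolynomial.map_X, ← hf, mul_assoc]⟩

theorem eq_of_comap_map_eq (p : Ideal R) [p.IsPrime] {n : ℕ}
    (P₁ P₂ : Ideal (MvPolynomial (Fin n) p.ResidueField)) [P₁.IsPrime] [P₂.IsPrime]
    (h : P₁.comap (MvPolynomial.map (algebraMap R p.ResidueField)) =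
      P₂.comap (MvPolynomial.map (algebraMap R p.ResidueField))) : P₁ = P₂ := by
  ext F
  obtain ⟨r, hr, f, hf⟩ := exists_C_mul_eq_map p F
  have hu : IsUnit (MvPolynomial.C (σ := Fin n) (algebraMap R p.ResidueField r)) :=
    (isUnit_iff_ne_zero.2 (fun h0 => hr (Ideal.algebraMap_residueField_eq_zero.1 h0))).map _
  rw [← Ideal.unit_mul_mem_iff_mem P₁ hu, ← Ideal.unit_mul_mem_iff_mem P₂ hu, hf,
    ← Ideal.mem_comap, ← Ideal.mem_comap, h]

theorem ringKrullDim_fiber_mvPolynomial (p : Ideal R) [p.IsPrime] (n : ℕ) :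
    ringKrullDim (p.Fiber (MvPolynomial (Fin n) R)) = n := by
  rw [ringKrullDim_eq_of_ringEquiv
    (MvPolynomial.algebraTensorAlgEquiv (σ := Fin n) R p.ResidueField).toRingEquiv]
  simp [MvPolynomial.ringKrullDim_of_isNoetherianRing]

end ring

/-- A point incomparable with the other points of its fibre is a quasi-finite point. -/
theorem quasiFiniteAt_of_incomparable {V W : Scheme.{u}} (G : V ⟶ W) [LocallyOfFiniteType G]
    (x : V) (h : ∀ z : V, G.base z = G.base x → (z ⤳ x ∨ x ⤳ z) → z = x) : G.QuasiFiniteAt x := by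
  rw [Groth.Agent.H46.QFin.quasiFiniteAt_iff]
  have key : ∀ z : G.fiber (G.base x),
      ((G.fiberι _).base z ⤳ x ∨ x ⤳ (G.fiberι _).base z) → z = G.asFiber x := fun z hz =>
    Groth.Agent.H46.QFin.eq_asFiber x z (h _ (Groth.Agent.H46.QFin.asFiber_mem (f := G) z) hz)
  refine ⟨isClosed_of_closure_subset fun z hz => key z (Or.inr ?_),
    fun z hz => key z (Or.inl ?_)⟩
  · have := (specializes_iff_mem_closure.2 hz).map (G.fiberι _).continuous
    rwa [G.fiberι_asFiber] at this
  · have := hz.map (G.fiberι _).continuous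
    rwa [G.fiberι_asFiber] at this

section chartRing

variable {R A : Type u} [CommRing R] [CommRing A] [Algebra R A] [Algebra.FiniteType R A]

theorem locallyOfFiniteType_aeval {s : ℕ} (a : Fin s → A) :
    LocallyOfFiniteType
      (Spec.map (CommRingCat.ofHom (MvPolynomial.aeval (R := R) a).toRingHom)) := by
  let Φ := MvPolynomial.aeval (R := R) a
  rw [HasRingHomProperty.Spec_iff (P := @LocallyOfFiniteType)]
  have h2 : (Φ.toRingHom.comp (algebraMap R (MvPolynomial (Fin s) R))).FiniteType := by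
    rw [show Φ.toRingHom.comp (algebraMap R (MvPolynomial (Fin s) R)) = algebraMap R A from
      Φ.comp_algebraMap]
    exact RingHom.finiteType_algebraMap.2 ‹_›
  exact RingHom.FiniteType.of_comp_finiteType h2

/-- A map to affine space over the base which is quasi-finite at a given prime, with as many
coordinates as the dimension of the fibre ring. -/
theorem exists_quasiFiniteAt_aeval (P : PrimeSpectrum A) :
    ∃ (s : ℕ) (a : Fin s → A),
      (s : WithBot ℕ∞) = ringKrullDim ((PrimeSpectrum.comap (algebraMap R A) P).asIdeal.Fiber A) ∧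
      (Spec.map (CommRingCat.ofHom (MvPolynomial.aeval (R := R) a).toRingHom)).QuasiFiniteAt P := by
  classical
  let p := PrimeSpectrum.comap (algebraMap R A) P
  let κ := p.asIdeal.ResidueField
  let S := p.asIdeal.Fiber A
  let eh := PrimeSpectrum.preimageHomeomorphFiber R A p
  have : Nontrivial S := by
    by_contra h
    rw [not_nontrivial_iff_subsingleton] at h
    exact (eh ⟨P, rfl⟩).2.ne_top (Subsingleton.elim _ _)
  obtain ⟨s, g, hginj, hgfin⟩ := exists_finite_inj_algHom_of_fg κ S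
  have hs : (s : WithBot ℕ∞) = ringKrullDim S := by
    letI := g.toRingHom.toAlgebra
    haveI : FaithfulSMul (MvPolynomial (Fin s) κ) S :=
      (faithfulSMul_iff_algebraMap_injective _ _).mpr hginj
    haveI : Module.Finite (MvPolynomial (Fin s) κ) S := hgfin
    rw [Dim.Integral.ringKrullDim_eq_of_isIntegral (R := MvPolynomial (Fin s) κ) (A := S)]
    simp [MvPolynomial.ringKrullDim_of_isNoetherianRing]
  choose r hr a ha using fun i => Ideal.Fiber.exists_smul_eq_one_tmul p.asIdeal (g (MvPolynomial.X i))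
  let Φ : MvPolynomial (Fin s) R →ₐ[R] A := MvPolynomial.aeval a
  let Ψ : MvPolynomial (Fin s) κ →ₐ[κ] S := MvPolynomial.aeval fun i => (1 : κ) ⊗ₜ[R] a i
  have hΨ : Ψ.toRingHom.Finite := by
    let σ : MvPolynomial (Fin s) κ →ₐ[κ] MvPolynomial (Fin s) κ :=
      MvPolynomial.aeval fun i => algebraMap R κ (r i) • MvPolynomial.X i
    have hσ : Function.Surjective σ := by
      rw [← AlgHom.range_eq_top, eq_top_iff, ← MvPolynomial.adjoin_range_X,
        Algebra.adjoin_le_iff]
      rintro _ ⟨i, rfl⟩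
      refine ⟨(algebraMap R κ (r i))⁻¹ • MvPolynomial.X i, ?_⟩
      show σ ((algebraMap R κ (r i))⁻¹ • MvPolynomial.X i) = _
      rw [map_smul, MvPolynomial.aeval_X, inv_smul_smul₀]
      exact fun h0 => hr i (Ideal.algebraMap_residueField_eq_zero.1 h0)
    have : Ψ = g.comp σ := by
      apply MvPolynomial.algHom_ext
      intro i
      rw [AlgHom.comp_apply, MvPolynomial.aeval_X, MvPolynomial.aeval_X, map_smul,
        algebraMap_smul]
      exact (ha i).symm
    rw [this]
    exact hgfin.comp (RingHom.Finite.of_surjective _ hσ)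
  have hcompat : (Ψ.toRingHom.comp (MvPolynomial.map (algebraMap R κ))) =
      (Algebra.TensorProduct.includeRight (R := R) (A := κ) (B := A)).toRingHom.comp Φ.toRingHom := by
    apply MvPolynomial.ringHom_ext
    · intro c
      simp only [RingHom.comp_apply, AlgHom.toRingHom_eq_coe, RingHom.coe_coe, MvPolynomial.map_C,
        MvPolynomial.aeval_C, Ψ, Φ]
      exact ((Algebra.TensorProduct.includeRight (R := R) (A := κ) (B := A)).commutes c).symm
    · intro i
      simp only [RingHom.comp_apply, AlgHom.toRingHom_eq_coe, RingHom.coe_coe, MvPolynomial.map_X,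
        MvPolynomial.aeval_X, Ψ, Φ, Algebra.TensorProduct.includeRight_apply]
  have hΦ : Φ.toRingHom.comp MvPolynomial.C = algebraMap R A := by ext c; simp [Φ]
  let G : Spec (CommRingCat.of A) ⟶ Spec (CommRingCat.of (MvPolynomial (Fin s) R)) :=
    Spec.map (CommRingCat.ofHom Φ.toRingHom)
  have : LocallyOfFiniteType G := locallyOfFiniteType_aeval a
  have hover : ∀ Q : PrimeSpectrum A, PrimeSpectrum.comap MvPolynomial.C
      (PrimeSpectrum.comap Φ.toRingHom Q) = PrimeSpectrum.comap (algebraMap R A) Q := fun Q => by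
    rw [← PrimeSpectrum.comap_comp_apply, hΦ]
  -- incomparability over `p`
  have hinc : ∀ Q₁ Q₂ : PrimeSpectrum A, PrimeSpectrum.comap (algebraMap R A) Q₂ = p →
      Q₁ ≤ Q₂ → G.base Q₁ = G.base Q₂ → Q₁ = Q₂ := by
    intro Q₁ Q₂ h2 hle hG
    have hG' : PrimeSpectrum.comap Φ.toRingHom Q₁ = PrimeSpectrum.comap Φ.toRingHom Q₂ := hG
    have h1 : PrimeSpectrum.comap (algebraMap R A) Q₁ = p := by
      rw [← hover, hG', hover]; exact h2
    obtain ⟨z₁, hz₁⟩ : ∃ z₁, z₁ = eh ⟨Q₁, h1⟩ := ⟨_, rfl⟩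
    obtain ⟨z₂, hz₂⟩ : ∃ z₂, z₂ = eh ⟨Q₂, h2⟩ := ⟨_, rfl⟩
    have hle' : z₁ ≤ z₂ := by
      rw [hz₁, hz₂]
      exact (PrimeSpectrum.preimageOrderIsoFiber R A p).monotone (show (⟨Q₁, h1⟩ :
        ↥(PrimeSpectrum.comap (algebraMap R A) ⁻¹' {p})) ≤ ⟨Q₂, h2⟩ from hle)
    have hsymm : ∀ z : PrimeSpectrum S, (eh.symm z).1.asIdeal =
        z.asIdeal.comap (Algebra.TensorProduct.includeRight (R := R) (A := κ) (B := A)).toRingHom :=
      fun z => rfl
    have hc : (z₁.asIdeal.comap Ψ.toRingHom).comap (MvPolynomial.map (algebraMap R κ)) =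
        (z₂.asIdeal.comap Ψ.toRingHom).comap (MvPolynomial.map (algebraMap R κ)) := by
      rw [Ideal.comap_comap, Ideal.comap_comap, hcompat, ← Ideal.comap_comap, ← Ideal.comap_comap,
        ← hsymm, ← hsymm, hz₁, hz₂, Homeomorph.symm_apply_apply, Homeomorph.symm_apply_apply]
      exact congrArg PrimeSpectrum.asIdeal hG'
    have heq := eq_of_comap_map_eq p.asIdeal _ _ hc
    have hz : z₁ = z₂ := by
      by_contra hne
      letI := Ψ.toRingHom.toAlgebra
      haveI : Module.Finite (MvPolynomial (Fin s) κ) S := hΨ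
      exact (Dim.Integral.comap_strictMono (R := MvPolynomial (Fin s) κ) (A := S)
        (lt_of_le_of_ne hle' hne)).ne (PrimeSpectrum.ext heq)
    rw [hz₁, hz₂] at hz
    exact congrArg Subtype.val (eh.injective hz)
  have hqf : G.QuasiFiniteAt P := by
    refine quasiFiniteAt_of_incomparable G P fun Q hG hcmp => ?_
    have hG' : PrimeSpectrum.comap Φ.toRingHom Q = PrimeSpectrum.comap Φ.toRingHom P := hG
    have hover' : PrimeSpectrum.comap (algebraMap R A) Q = p := by
      rw [← hover, hG', hover]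
    rcases hcmp with hz | hz
    · exact hinc Q P rfl ((PrimeSpectrum.le_iff_specializes _ _).2 hz) hG
    · exact (hinc P Q hover' ((PrimeSpectrum.le_iff_specializes _ _).2 hz) hG.symm).symm
  exact ⟨s, a, hs, hqf⟩

theorem strictMono_comap_of_quasiFinite {s : ℕ} (a : Fin s → A) (h : A)
    [LocallyOfFiniteType (Spec.map (CommRingCat.ofHom (MvPolynomial.aeval (R := R) a).toRingHom))]
    (hh : ∀ Q : PrimeSpectrum A, Q ∈ PrimeSpectrum.basicOpen h →
      (Spec.map (CommRingCat.ofHom (MvPolynomial.aeval (R := R) a).toRingHom)).QuasiFiniteAt Q) :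
    StrictMono (PrimeSpectrum.comap
      ((algebraMap A (Localization.Away h)).comp (MvPolynomial.aeval (R := R) a).toRingHom)) := by
  let G := Spec.map (CommRingCat.ofHom (MvPolynomial.aeval (R := R) a).toRingHom)
  intro B₁ B₂ hlt
  rw [PrimeSpectrum.comap_comp_apply, PrimeSpectrum.comap_comp_apply]
  have hle : PrimeSpectrum.comap (algebraMap A (Localization.Away h)) B₁ ≤
      PrimeSpectrum.comap (algebraMap A (Localization.Away h)) B₂ := Ideal.comap_mono hlt.le
  refine lt_of_le_of_ne (Ideal.comap_mono hle) fun heq => ?_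
  have hq2 := ((Groth.Agent.H46.QFin.quasiFiniteAt_iff G _).1 (hh _
    ((PrimeSpectrum.localization_away_comap_range (Localization.Away h) h).le ⟨B₂, rfl⟩))).2
  let C₁ : Spec (CommRingCat.of A) := PrimeSpectrum.comap (algebraMap A (Localization.Away h)) B₁
  let C₂ : Spec (CommRingCat.of A) := PrimeSpectrum.comap (algebraMap A (Localization.Away h)) B₂
  obtain ⟨z, hz⟩ : C₁ ∈ Set.range (G.fiberι (G.base C₂)).base := by
    rw [G.range_fiberι]; exact heq
  have hzs : z ⤳ G.asFiber C₂ := by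
    rw [← (G.fiberι _).isEmbedding.isInducing.specializes_iff, G.fiberι_asFiber, hz]
    exact (PrimeSpectrum.le_iff_specializes _ _).1 hle
  have hC : C₁ = C₂ := by rw [← hz, hq2 z hzs, G.fiberι_asFiber]
  exact hlt.ne (PrimeSpectrum.localization_comap_injective (Localization.Away h)
    (Submonoid.powers h) hC)

theorem localDim_le_of_quasiFinite {s : ℕ} (a : Fin s → A) (h : A)
    [LocallyOfFiniteType (Spec.map (CommRingCat.ofHom (MvPolynomial.aeval (R := R) a).toRingHom))]
    (hh : ∀ Q : PrimeSpectrum A, Q ∈ PrimeSpectrum.basicOpen h →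
      (Spec.map (CommRingCat.ofHom (MvPolynomial.aeval (R := R) a).toRingHom)).QuasiFiniteAt Q)
    (q : PrimeSpectrum R) (Q : ↥(PrimeSpectrum.comap (algebraMap R A) ⁻¹' {q}))
    (hQh : Q.1 ∈ PrimeSpectrum.basicOpen h) :
    FlatMor.localDim ↥(PrimeSpectrum.comap (algebraMap R A) ⁻¹' {q}) Q ≤ (s : WithBot ℕ∞) := by
  let Φ := MvPolynomial.aeval (R := R) a
  let D : TopologicalSpace.Opens ↥(PrimeSpectrum.comap (algebraMap R A) ⁻¹' {q}) :=
    ⟨Subtype.val ⁻¹' (PrimeSpectrum.basicOpen h : Set (PrimeSpectrum A)),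
      (PrimeSpectrum.basicOpen h).2.preimage continuous_subtype_val⟩
  refine iInf_le_of_le ⟨D, hQh⟩ ?_
  let A' := Localization.Away h
  have hrange := PrimeSpectrum.localization_away_comap_range A' h
  have hcomp : ∀ B : PrimeSpectrum A', PrimeSpectrum.comap (algebraMap R A)
      (PrimeSpectrum.comap (algebraMap A A') B) = PrimeSpectrum.comap (algebraMap R A') B := fun B => by
    rw [← PrimeSpectrum.comap_comp_apply, ← IsScalarTower.algebraMap_eq]
  have hD : topologicalKrullDim (D : Set ↥(PrimeSpectrum.comap (algebraMap R A) ⁻¹' {q})) ≤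
      topologicalKrullDim ↥(PrimeSpectrum.comap (algebraMap R A') ⁻¹' {q}) := by
    let j : ↥(PrimeSpectrum.comap (algebraMap R A') ⁻¹' {q}) →
        (D : Set ↥(PrimeSpectrum.comap (algebraMap R A) ⁻¹' {q})) := fun B =>
      ⟨⟨PrimeSpectrum.comap (algebraMap A A') B.1, (hcomp _).trans B.2⟩, hrange.le ⟨B.1, rfl⟩⟩
    have hj : IsEmbedding j :=
      (IsEmbedding.subtypeVal.of_comp_iff).1 ((IsEmbedding.subtypeVal.of_comp_iff).1
        ((PrimeSpectrum.localization_away_isOpenEmbedding A' h).isEmbedding.comp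
          IsEmbedding.subtypeVal))
    have hjs : Function.Surjective j := by
      rintro ⟨⟨C, hC⟩, hCh⟩
      obtain ⟨B, rfl⟩ := hrange.ge hCh
      exact ⟨⟨B, (hcomp B).symm.trans hC⟩, rfl⟩
    exact (IsHomeomorph.topologicalKrullDim_eq _
      (hj.toHomeomorphOfSurjective hjs).isHomeomorph).ge
  refine hD.trans ?_
  rw [IsHomeomorph.topologicalKrullDim_eq _
    (PrimeSpectrum.preimageHomeomorphFiber R A' q).isHomeomorph,
    PrimeSpectrum.topologicalKrullDim_eq_ringKrullDim,
    ← ringKrullDim_fiber_mvPolynomial q.asIdeal s]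
  have hm : ∀ B : ↥(PrimeSpectrum.comap (algebraMap R A') ⁻¹' {q}),
      PrimeSpectrum.comap ((algebraMap A A').comp Φ.toRingHom) B.1 ∈
        PrimeSpectrum.comap (algebraMap R (MvPolynomial (Fin s) R)) ⁻¹' {q} := fun B => by
    show PrimeSpectrum.comap _ _ = q
    rw [← PrimeSpectrum.comap_comp_apply, RingHom.comp_assoc,
      show Φ.toRingHom.comp (algebraMap R (MvPolynomial (Fin s) R)) = algebraMap R A from
        Φ.comp_algebraMap, ← IsScalarTower.algebraMap_eq]
    exact B.2
  let bj : ↥(PrimeSpectrum.comap (algebraMap R A') ⁻¹' {q}) → ↥(PrimeSpectrum.comap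
      (algebraMap R (MvPolynomial (Fin s) R)) ⁻¹' {q}) := fun B => ⟨_, hm B⟩
  have hbj : StrictMono bj := fun B₁ B₂ hlt => strictMono_comap_of_quasiFinite a h hh hlt
  exact Order.krullDim_le_of_strictMono _
    ((PrimeSpectrum.preimageOrderIsoFiber R (MvPolynomial (Fin s) R) q).strictMono.comp
      (hbj.comp (PrimeSpectrum.preimageOrderIsoFiber R A' q).symm.strictMono))

end chartRing

variable {X Y : Scheme.{u}}

/-- Chevalley: near every point the local dimension of the fibres does not jump up. -/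
theorem exists_open_forall_fibreDimAt_le (f : X ⟶ Y) [LocallyOfFiniteType f] (x : X) :
    ∃ U : X.Opens, x ∈ U ∧ ∀ u ∈ U, FlatMor.fibreDimAt f u ≤ FlatMor.fibreDimAt f x := by
  classical
  obtain ⟨O0, hxO0, hO0⟩ :=
    exists_open_krullDim_eq (⟨x, rfl⟩ : ↥(f.base ⁻¹' {f.base x}))
  obtain ⟨O, hO, hOeq⟩ := isOpen_induced_iff.1 O0.2
  have hxO : x ∈ O := by
    have : (⟨x, rfl⟩ : ↥(f.base ⁻¹' {f.base x})) ∈ Subtype.val ⁻¹' O := hOeq ▸ hxO0
    exact this
  obtain ⟨R, A, _, _, _, _, v, w, _, _, P, hw, rfl, hwO⟩ := exists_chart f x ⟨O, hO⟩ hxO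
  let p := PrimeSpectrum.comap (algebraMap R A) P
  have hdimS : ringKrullDim (p.asIdeal.Fiber A) ≤ FlatMor.fibreDimAt f (w.base P) := by
    obtain ⟨e, he, hev⟩ := exists_isOpenEmbedding f v w hw p
    have hmem : ∀ z, (e z).1 ∈ O := fun z => hev z ▸ hwO ⟨_, rfl⟩
    rw [fibreDimAt_eq, ← hO0, ← PrimeSpectrum.topologicalKrullDim_eq_ringKrullDim]
    have hfp : v.base p = f.base (w.base P) := (apply_eq f v w hw P).symm
    let i : PrimeSpectrum (p.asIdeal.Fiber A) →
        (O0 : Set ↥(f.base ⁻¹' {f.base (w.base P)})) := fun z =>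
      ⟨⟨(e z).1, (e z).2.trans hfp⟩,
        (Set.ext_iff.1 hOeq ⟨(e z).1, (e z).2.trans hfp⟩).1 (hmem z)⟩
    have hi : IsInducing i := by
      refine (IsInducing.subtypeVal.of_comp_iff).1 ((IsInducing.subtypeVal.of_comp_iff).1 ?_)
      have e1 := (IsInducing.subtypeVal (t := f.base ⁻¹' {v.base p})).comp he.isEmbedding.isInducing
      exact e1
    exact hi.topologicalKrullDim_le
  obtain ⟨s, a, hs, hqf⟩ := exists_quasiFiniteAt_aeval (R := R) P
  let G := Spec.map (CommRingCat.ofHom (MvPolynomial.aeval (R := R) a).toRingHom)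
  have : LocallyOfFiniteType G := locallyOfFiniteType_aeval a
  refine ⟨⟨w.base '' {Q | G.QuasiFiniteAt Q}, w.isOpenEmbedding.isOpenMap _ G.isOpen_quasiFiniteAt⟩,
    ⟨P, hqf, rfl⟩, ?_⟩
  rintro _ ⟨Q, hQ, rfl⟩
  refine le_trans ?_ (hs.le.trans hdimS)
  obtain ⟨_, ⟨h, rfl⟩, hQh, hh⟩ :=
    PrimeSpectrum.isTopologicalBasis_basic_opens.exists_subset_of_mem_open
      (show Q ∈ {Q | G.QuasiFiniteAt Q} from hQ) G.isOpen_quasiFiniteAt
  have hle := localDim_le_of_quasiFinite a h (fun Q' hQ' => hh hQ')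
    (PrimeSpectrum.comap (algebraMap R A) Q) ⟨Q, rfl⟩ hQh
  rw [fibreDimAt_eq_localDim f v w hw Q]
  exact (localDim_eq_of_homeomorph _ _).le.trans hle

/-- The set where the local fibre dimension is at most `n` is open. -/
theorem isOpen_setOf_fibreDimAt_le (f : X ⟶ Y) [LocallyOfFiniteType f] (n : WithBot ℕ∞) :
    IsOpen {x : X | FlatMor.fibreDimAt f x ≤ n} := by
  rw [isOpen_iff_forall_mem_open]
  intro x hx
  obtain ⟨U, hxU, hU⟩ := exists_open_forall_fibreDimAt_le f x
  exact ⟨U, fun u hu => (hU u hu).trans hx, U.2, hxU⟩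

end Groth.Agent.Lib.FibreDim.Semicont
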