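import Groth.Agent.Lib.FibreDim.Basic
import Groth.Agent.Lib.Dim.LocalDim
import Mathlib.RingTheory.LocalRing.ResidueField.Fiber
import Mathlib.AlgebraicGeometry.Morphisms.FiniteType

/-!
# Fibre dimension in affine charts
-/

set_option autoImplicit false

universe u

open CategoryTheory AlgebraicGeometry Topology

namespace Groth.Agent.Lib.FibreDim.Chart

open Groth.Agent.Lib.FibreDim.Basic

variable {X Y : Scheme.{u}}

theorem exists_chart (f : X ⟶ Y) [LocallyOfFiniteType f] (x : X) (O : X.Opens) (hxO : x ∈ O) :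
    ∃ (R A : Type u) (_ : CommRing R) (_ : CommRing A) (_ : Algebra R A)
      (_ : Algebra.FiniteType R A) (v : Spec (CommRingCat.of R) ⟶ Y)
      (w : Spec (CommRingCat.of A) ⟶ X) (_ : IsOpenImmersion v) (_ : IsOpenImmersion w)
      (P : PrimeSpectrum A),
      Spec.map (CommRingCat.ofHom (algebraMap R A)) ≫ v = w ≫ f ∧ w.base P = x ∧
        Set.range w.base ⊆ O := by
  obtain ⟨V, hV, hxV, -⟩ :=
    AlgebraicGeometry.exists_isAffineOpen_mem_and_subset (x := f.base x) (U := ⊤) trivial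
  obtain ⟨U, hU, hxU, hUV⟩ :=
    AlgebraicGeometry.exists_isAffineOpen_mem_and_subset (x := x) (U := f ⁻¹ᵁ V ⊓ O) ⟨hxV, hxO⟩
  have hUV' : U ≤ f ⁻¹ᵁ V := le_trans hUV inf_le_left
  have hft := f.finiteType_appLE hV hU hUV'
  refine ⟨Γ(Y, V), Γ(X, U), inferInstance, inferInstance, (f.appLE V U hUV').hom.toAlgebra, hft,
    hV.fromSpec, hU.fromSpec, inferInstance, inferInstance, hU.primeIdealOf ⟨x, hxU⟩,
    hV.SpecMap_appLE_fromSpec f hU hUV', hU.fromSpec_primeIdealOf _, ?_⟩
  rw [hU.range_fromSpec]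
  exact fun a ha => (hUV ha).2

variable {R A : Type u} [CommRing R] [CommRing A] [Algebra R A]
  (f : X ⟶ Y) (v : Spec (CommRingCat.of R) ⟶ Y) [IsOpenImmersion v]
  (w : Spec (CommRingCat.of A) ⟶ X) [IsOpenImmersion w]
  (hw : Spec.map (CommRingCat.ofHom (algebraMap R A)) ≫ v = w ≫ f)

include hw in
theorem apply_eq (Q : PrimeSpectrum A) :
    f.base (w.base Q) = v.base (PrimeSpectrum.comap (algebraMap R A) Q) := by
  rw [← Scheme.Hom.comp_apply, ← hw]
  rfl

include hw in
/-- The fibre ring of a chart gives an open subspace of the fibre. -/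
theorem exists_isOpenEmbedding (p : PrimeSpectrum R) :
    ∃ e : PrimeSpectrum (p.asIdeal.Fiber A) → ↥(f.base ⁻¹' {v.base p}),
      IsOpenEmbedding e ∧
      ∀ z, (e z).1 = w.base ((PrimeSpectrum.preimageHomeomorphFiber R A p).symm z).1 := by
  have h1 := (f.base ⁻¹' {v.base p}).restrictPreimage_isOpenEmbedding w.isOpenEmbedding
  have hset : (PrimeSpectrum.comap (algebraMap R A) ⁻¹' {p} : Set (PrimeSpectrum A)) =
      w.base ⁻¹' (f.base ⁻¹' {v.base p}) := by
    ext Q
    show PrimeSpectrum.comap (algebraMap R A) Q = p ↔ f.base (w.base Q) = v.base p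
    rw [apply_eq f v w hw]
    exact v.isOpenEmbedding.injective.eq_iff.symm
  exact ⟨_, h1.comp ((PrimeSpectrum.preimageHomeomorphFiber R A p).symm.trans
    (Homeomorph.setCongr hset)).isOpenEmbedding, fun z => rfl⟩

include hw in
theorem fibreDimAt_eq_localDim (P : PrimeSpectrum A) :
    FlatMor.fibreDimAt f (w.base P) =
      FlatMor.localDim (PrimeSpectrum ((PrimeSpectrum.comap (algebraMap R A) P).asIdeal.Fiber A))
        (PrimeSpectrum.preimageHomeomorphFiber R A _ ⟨P, rfl⟩) := by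
  obtain ⟨e, he, hev⟩ := exists_isOpenEmbedding f v w hw (PrimeSpectrum.comap (algebraMap R A) P)
  rw [← localDim_eq_of_isOpenEmbedding he, localDim_preimage, hev, Homeomorph.symm_apply_apply]

variable [Algebra.FiniteType R A]

include hw in
theorem fibreDimAt_eq_dimAt (P : PrimeSpectrum A) :
    FlatMor.fibreDimAt f (w.base P) =
      (Dim.Local.dimAt (PrimeSpectrum.comap (algebraMap R A) P).asIdeal.ResidueField
        (PrimeSpectrum.preimageHomeomorphFiber R A _ ⟨P, rfl⟩).asIdeal : WithBot ℕ∞) := by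
  rw [fibreDimAt_eq_localDim f v w hw P]
  generalize PrimeSpectrum.preimageHomeomorphFiber R A _ ⟨P, rfl⟩ = P'
  exact Dim.LocalDim.localDim_eq_dimAt _ P'.asIdeal

omit [Algebra R A] [Algebra.FiniteType R A] in
/-- The fibre dimension is a natural number. -/
theorem exists_fibreDimAt_eq (f : X ⟶ Y) [LocallyOfFiniteType f] (x : X) :
    ∃ e : ℕ, FlatMor.fibreDimAt f x = e := by
  obtain ⟨R', A', _, _, _, _, v', w', _, _, P, hw', hP, -⟩ := exists_chart f x ⊤ trivial
  exact ⟨_, hP ▸ fibreDimAt_eq_dimAt f v' w' hw' P⟩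

omit [Algebra R A] [Algebra.FiniteType R A] in
/-- Every point is a specialization, inside its fibre, of a maximal point of the fibre with the
same local fibre dimension. -/
theorem exists_maximal_generization (f : X ⟶ Y) [LocallyOfFiniteType f] (x : X) :
    ∃ z : X, z ⤳ x ∧ f.base z = f.base x ∧
      (∀ z' : X, f.base z' = f.base x → z' ⤳ z → z' = z) ∧
      FlatMor.fibreDimAt f z = FlatMor.fibreDimAt f x := by
  obtain ⟨R', A', _, _, _, _, v', w', _, _, P, hw', hP, -⟩ := exists_chart f x ⊤ trivial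
  subst hP
  let p := PrimeSpectrum.comap (algebraMap R' A') P
  let κ := p.asIdeal.ResidueField
  let e := PrimeSpectrum.preimageHomeomorphFiber R' A' p
  let P' := e ⟨P, rfl⟩
  obtain ⟨q, hq, hqP, hqd⟩ := Dim.Local.exists_minimalPrimes_dimAt_eq κ P'.asIdeal
  have hqp : q.IsPrime := hq.1.1
  let Q : PrimeSpectrum A' := (e.symm ⟨q, hqp⟩).1
  have hQp : PrimeSpectrum.comap (algebraMap R' A') Q = p := (e.symm ⟨q, hqp⟩).2
  have heQ : e ⟨Q, hQp⟩ = ⟨q, hqp⟩ := e.apply_symm_apply _
  have hspec : (⟨q, hqp⟩ : PrimeSpectrum (p.asIdeal.Fiber A')) ⤳ P' :=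
    (PrimeSpectrum.le_iff_specializes _ _).1 hqP
  have hQP : w'.base Q ⤳ w'.base P := by
    have h := ((hspec.map e.symm.continuous).map continuous_subtype_val).map w'.continuous
    simpa [P'] using h
  have hfQ : f.base (w'.base Q) = f.base (w'.base P) := by
    rw [apply_eq f v' w' hw', apply_eq f v' w' hw', hQp]
  refine ⟨w'.base Q, hQP, hfQ, fun z' hz' hz'Q => ?_, ?_⟩
  · obtain ⟨Q', rfl⟩ : z' ∈ Set.range w'.base :=
      hz'Q.mem_open w'.isOpenEmbedding.isOpen_range ⟨_, rfl⟩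
    have hQ'p : PrimeSpectrum.comap (algebraMap R' A') Q' = p :=
      v'.isOpenEmbedding.injective (by rw [← apply_eq f v' w' hw', hz', apply_eq f v' w' hw'])
    have hs : (⟨Q', hQ'p⟩ : ↥(PrimeSpectrum.comap (algebraMap R' A') ⁻¹' {p})) ⤳ ⟨Q, hQp⟩ :=
      (subtype_specializes_iff _ _).2 (w'.isOpenEmbedding.isInducing.specializes_iff.1 hz'Q)
    have hs' := hs.map e.continuous
    rw [heQ, ← PrimeSpectrum.le_iff_specializes] at hs'
    have heq : e ⟨Q', hQ'p⟩ = ⟨q, hqp⟩ :=
      PrimeSpectrum.ext (le_antisymm hs' (hq.2 ⟨(e ⟨Q', hQ'p⟩).2, bot_le⟩ hs'))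
    rw [← heQ] at heq
    exact congrArg (fun a => w'.base a.1) (e.injective heq)
  · refine le_antisymm (fibreDimAt_mono f hQP hfQ) ?_
    rw [fibreDimAt_eq_dimAt f v' w' hw' P]
    obtain ⟨e', he', hev⟩ := exists_isOpenEmbedding f v' w' hw' p
    have h3 : FlatMor.localDim (PrimeSpectrum (p.asIdeal.Fiber A')) ⟨q, hqp⟩ =
        FlatMor.fibreDimAt f (w'.base Q) := by
      rw [← localDim_eq_of_isOpenEmbedding he', localDim_preimage, hev]
    rw [← h3, Dim.LocalDim.localDim_eq_dimAt κ q]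
    exact_mod_cast hqd ▸ Dim.Local.dimQ_le_dimAt_of_le κ (le_refl q)

end Groth.Agent.Lib.FibreDim.Chart
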