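import Groth.Prelude.Def_Flat
import Mathlib.Topology.KrullDimension
import Mathlib.Topology.Sets.Closeds
import Mathlib.AlgebraicGeometry.Fiber

/-!
# Local dimension of topological spaces and of fibres
-/

set_option autoImplicit false

universe u

open CategoryTheory AlgebraicGeometry Topology TopologicalSpace

namespace Groth.Agent.Lib.FibreDim.Basic

section top

variable {α β : Type*} [TopologicalSpace α] [TopologicalSpace β]

theorem localDim_eq_of_isOpenEmbedding {φ : α → β} (h : IsOpenEmbedding φ) (a : α) :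
    FlatMor.localDim β (φ a) = FlatMor.localDim α a := by
  refine le_antisymm (le_iInf fun U => ?_) (le_iInf fun V => ?_)
  · refine iInf_le_of_le ⟨⟨φ '' U.1, h.isOpenMap _ U.1.2⟩, a, U.2, rfl⟩ ?_
    exact (IsHomeomorph.topologicalKrullDim_eq _
      (h.isEmbedding.homeomorphImage (U.1 : Set α)).isHomeomorph).ge
  · refine iInf_le_of_le ⟨⟨φ ⁻¹' V.1, V.1.2.preimage h.continuous⟩, V.2⟩ ?_
    exact (h.restrictPreimage (V.1 : Set β)).isInducing.topologicalKrullDim_le

theorem localDim_eq_of_homeomorph (e : α ≃ₜ β) (a : α) :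
    FlatMor.localDim β (e a) = FlatMor.localDim α a :=
  localDim_eq_of_isOpenEmbedding e.isOpenEmbedding a

theorem localDim_le_topologicalKrullDim (a : α) : FlatMor.localDim α a ≤ topologicalKrullDim α :=
  iInf_le_of_le ⟨⊤, trivial⟩ (topologicalKrullDim_subspace_le α _)

theorem localDim_mono {z a : α} (h : z ⤳ a) : FlatMor.localDim α z ≤ FlatMor.localDim α a :=
  le_iInf fun U => iInf_le_of_le ⟨U.1, h.mem_open U.1.2 U.2⟩ le_rfl

theorem exists_open_krullDim_eq (a : α) :
    ∃ U : Opens α, a ∈ U ∧ topologicalKrullDim (U : Set α) = FlatMor.localDim α a := by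
  have : Nonempty {U : Opens α // a ∈ U} := ⟨⊤, trivial⟩
  obtain ⟨U, hU⟩ := ciInf_mem
    (fun U : {U : Opens α // a ∈ U} => topologicalKrullDim (U.1 : Set α))
  exact ⟨U.1, U.2, hU⟩

theorem topologicalKrullDim_le_of_forall {n : WithBot ℕ∞}
    (h : ∀ a : α, FlatMor.localDim α a ≤ n) : topologicalKrullDim α ≤ n := by
  refine iSup_le fun l => ?_
  obtain ⟨a, ha⟩ := l.head.isIrreducible.nonempty
  obtain ⟨U, haU, hU⟩ := exists_open_krullDim_eq a
  refine le_trans ?_ ((hU.le).trans (h a))
  have hmem : ∀ i, a ∈ (l i : Set α) := fun i =>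
    (l.monotone (show 0 ≤ i from Fin.zero_le _) : (l 0 : Set α) ⊆ l i) ha
  let cut : Fin (l.length + 1) → IrreducibleCloseds (U : Set α) := fun i =>
    { carrier := Subtype.val ⁻¹' (l i : Set α)
      isIrreducible' := ⟨⟨⟨a, haU⟩, hmem i⟩,
        (l i).isIrreducible.2.preimage U.2.isOpenEmbedding_subtypeVal⟩
      isClosed' := (l i).isClosed.preimage continuous_subtype_val }
  have hmono : StrictMono cut := by
    intro i j hij
    have hle : cut i ≤ cut j := fun x hx => (l.monotone hij.le : (l i : Set α) ⊆ l j) hx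
    refine hle.lt_of_not_ge fun hge => (l.strictMono hij).not_ge ?_
    intro x hx
    have hsub := subset_closure_inter_of_isPreirreducible_of_isOpen (l j).isIrreducible.2 U.2
      ⟨a, hmem j, haU⟩
    refine closure_minimal ?_ (l i).isClosed (hsub hx)
    rintro y ⟨hyj, hyU⟩
    exact hge (show (⟨y, hyU⟩ : (U : Set α)) ∈ cut j from hyj)
  exact le_iSup_of_le (LTSeries.mk l.length cut hmono) le_rfl

theorem exists_localDim_eq [Nonempty α] {n : ℕ} (hn : topologicalKrullDim α = n) :
    ∃ a, (n : WithBot ℕ∞) ≤ FlatMor.localDim α a := by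
  by_contra h
  push Not at h
  cases n with
  | zero =>
    obtain ⟨a⟩ := ‹Nonempty α›
    obtain ⟨U, haU, hU⟩ := exists_open_krullDim_eq a
    have h1 : (0 : WithBot ℕ∞) ≤ topologicalKrullDim (U : Set α) := by
      rw [topologicalKrullDim, Order.krullDim_nonneg_iff]
      exact ⟨⟨closure {⟨a, haU⟩}, isIrreducible_singleton.closure, isClosed_closure⟩⟩
    exact absurd (h a) (not_lt.2 (by rw [← hU]; exact_mod_cast h1))
  | succ m =>
    have h1 : topologicalKrullDim α ≤ (m : WithBot ℕ∞) :=
      topologicalKrullDim_le_of_forall fun a => by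
        have := h a
        revert this
        cases FlatMor.localDim α a with
        | bot => simp
        | coe d =>
          intro hlt
          induction d using ENat.recTopCoe with
          | top => exact absurd hlt (not_lt.2 (by exact_mod_cast (le_top : ((m + 1 : ℕ) : ℕ∞) ≤ ⊤)))
          | coe k =>
            have : k < m + 1 := by exact_mod_cast hlt
            exact_mod_cast Nat.lt_succ_iff.1 this
    rw [hn] at h1
    have : m + 1 ≤ m := by exact_mod_cast h1
    omega

end top

section sch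

variable {X Y : Scheme.{u}} (f : X ⟶ Y)

theorem topologicalKrullDim_fiber (y : Y) :
    topologicalKrullDim ↥(f.fiber y) = topologicalKrullDim ↥(f.base ⁻¹' {y}) :=
  IsHomeomorph.topologicalKrullDim_eq _ (f.fiberHomeo y).isHomeomorph

theorem fibreDimAt_eq (x : X) :
    FlatMor.fibreDimAt f x = FlatMor.localDim ↥(f.base ⁻¹' {f.base x}) ⟨x, rfl⟩ := by
  have h := localDim_eq_of_homeomorph (f.fiberHomeo (f.base x)) (f.asFiber x)
  rw [FlatMor.fibreDimAt, ← h]
  congr 1
  exact Subtype.ext (f.fiberι_asFiber x)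

theorem localDim_preimage {y : Y} (z : ↥(f.base ⁻¹' {y})) :
    FlatMor.localDim ↥(f.base ⁻¹' {y}) z = FlatMor.fibreDimAt f z.1 := by
  obtain ⟨x, hx⟩ := z
  obtain rfl : f.base x = y := hx
  exact (fibreDimAt_eq f x).symm

theorem localDim_fiber {y : Y} (z : f.fiber y) :
    FlatMor.localDim ↥(f.fiber y) z = FlatMor.fibreDimAt f ((f.fiberι y).base z) := by
  rw [← localDim_eq_of_homeomorph (f.fiberHomeo y) z, localDim_preimage]
  rfl

theorem fibreDimAt_le_topologicalKrullDim {x : X} {y : Y} (h : f.base x = y) :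
    FlatMor.fibreDimAt f x ≤ topologicalKrullDim ↥(f.fiber y) := by
  subst h
  exact localDim_le_topologicalKrullDim _

theorem fibreDimAt_mono {z x : X} (hzx : z ⤳ x) (h : f.base z = f.base x) :
    FlatMor.fibreDimAt f z ≤ FlatMor.fibreDimAt f x := by
  rw [← localDim_preimage f (⟨z, h⟩ : ↥(f.base ⁻¹' {f.base x})), fibreDimAt_eq f x]
  exact localDim_mono ((subtype_specializes_iff _ _).2 hzx)

theorem topologicalKrullDim_fiber_le {y : Y} {n : WithBot ℕ∞}
    (h : ∀ x, f.base x = y → FlatMor.fibreDimAt f x ≤ n) :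
    topologicalKrullDim ↥(f.fiber y) ≤ n := by
  rw [topologicalKrullDim_fiber]
  refine topologicalKrullDim_le_of_forall fun z => ?_
  rw [localDim_preimage]
  exact h _ z.2

end sch

end Groth.Agent.Lib.FibreDim.Basic
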